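import Groth.Agent.SiteBase.NormalUnit.Open
import Groth.Agent.SiteBase.DerivedPrecomp
import Groth.Agent.EtFound.AbsNormal
import Groth.Agent.EtFound.PushExact
import Groth.Agent.EtFound.PullStalk
import Groth.Agent.EtFound.IntegralCore
import Groth.Prelude.Def_BigSite
import Mathlib.CategoryTheory.Preadditive.Injective.Preserves

/-!
# Direct images from separably closed fields
-/

set_option autoImplicit false

universe u

open CategoryTheory CategoryTheory.Limits AlgebraicGeometry Opposite TopologicalSpace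

namespace Groth.Agent.SepClosedPush

set_option backward.isDefEq.respectTransparency.types false

section Field

variable {η : Scheme.{u}} [IsIntegral η] [Subsingleton η] [IsSepClosed η.functionField]

omit [IsSepClosed η.functionField] in
theorem isNormal_point (x : η) : IsIntegrallyClosed (η.presheaf.stalk x) := by
  rw [Subsingleton.elim x (genericPoint η)]
  exact inferInstanceAs (IsIntegrallyClosed η.functionField)

/-- Every point of an etale scheme over a separably closed field carries a unique section. -/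
theorem exists_point_chart {U : Scheme.{u}} (q : U ⟶ η) [AlgebraicGeometry.Etale q] (t : U) :
    ∃ O : U.Opens, t ∈ O ∧ (∀ a ∈ O, a = t) ∧ IsIso (O.ι ≫ q) := by
  obtain ⟨O, hO, hopen⟩ := AbsNormal.exists_chart isNormal_point q t
  refine ⟨O, hO, fun a ha => ?_, ?_⟩
  · exact congrArg Subtype.val ((O.ι ≫ q).isOpenEmbedding.injective
      (Subsingleton.elim ((O.ι ≫ q) (⟨a, ha⟩ : (O : Scheme.{u}))) ((O.ι ≫ q) ⟨t, hO⟩)))
  · refine (isIso_iff_isOpenImmersion_and_epi_base _).2 ⟨hopen, (TopCat.epi_iff_surjective _).2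
      fun y => ⟨⟨t, hO⟩, Subsingleton.elim _ _⟩⟩

theorem propB_of_sepClosed {Y : Scheme.{u}} (f : η ⟶ Y) : BigSite.PropB f := by
  intro V v _ ι U g hg hcov
  refine ⟨PUnit, fun _ => V, fun _ => 𝟙 V, fun _ => inferInstance, fun y => ⟨⟨⟩, y, rfl⟩, fun _ => ?_⟩
  let P := pullback f (𝟙 V ≫ v)
  have : Etale (𝟙 V ≫ v) := inferInstance
  let q : P ⟶ η := pullback.fst f (𝟙 V ≫ v)
  have : Etale q := MorphismProperty.pullback_fst _ _ inferInstance
  choose O hO hOeq hOiso using fun a : P => exists_point_chart q a
  refine ⟨P, O, fun a b hab => ?_, ?_, fun a => ?_⟩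
  · rw [disjoint_iff, eq_bot_iff]
    rintro c ⟨h1, h2⟩
    exact absurd ((hOeq a c h1).symm.trans (hOeq b c h2)) hab
  · rw [eq_top_iff]
    exact fun a _ => Opens.mem_iSup.2 ⟨a, hO a⟩
  let m : P ⟶ pullback f v := pullback.map f (𝟙 V ≫ v) f v (𝟙 η) (𝟙 V) (𝟙 Y) (by simp) (by simp)
  obtain ⟨i, t, ht⟩ := hcov (m a)
  have := hg i
  have : Etale (pullback.fst f v) := MorphismProperty.pullback_fst _ _ inferInstance
  obtain ⟨O', hO', -, hO'iso⟩ := exists_point_chart (g i ≫ pullback.fst f v) t
  obtain ⟨O₁, hO₁, hO₁eq, hO₁iso⟩ := exists_point_chart (pullback.fst f v) (m a)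
  let h : (O a : Scheme.{u}) ⟶ U i :=
    ((O a).ι ≫ q) ≫ inv (O'.ι ≫ g i ≫ pullback.fst f v) ≫ O'.ι
  refine ⟨i, h, ?_⟩
  have hq : (O a).ι ≫ q = ((O a).ι ≫ m) ≫ pullback.fst f v := by
    rw [Category.assoc, show m ≫ pullback.fst f v = q from
      (pullback.lift_fst _ _ _).trans (Category.comp_id _)]
  have e1 : (h ≫ g i) ≫ pullback.fst f v = ((O a).ι ≫ m) ≫ pullback.fst f v := by
    rw [← hq]
    simp [h]
  have r1 : Set.range (h ≫ g i) ⊆ O₁ := by
    rintro _ ⟨c, rfl⟩
    exact (show (h ≫ g i) c = m a from by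
      show g i (O'.ι ((inv (O'.ι ≫ g i ≫ pullback.fst f v)) (((O a).ι ≫ q) c))) = m a
      rw [← ht]
      refine congrArg (g i) ?_
      exact congrArg Subtype.val ((O'.ι ≫ g i ≫ pullback.fst f v).isOpenEmbedding.injective
        (Subsingleton.elim ((O'.ι ≫ g i ≫ pullback.fst f v)
          ((inv (O'.ι ≫ g i ≫ pullback.fst f v)) (((O a).ι ≫ q) c)))
          ((O'.ι ≫ g i ≫ pullback.fst f v) ⟨t, hO'⟩)))) ▸ hO₁
  have r2 : Set.range ((O a).ι ≫ m) ⊆ O₁ := by
    rintro _ ⟨c, rfl⟩
    show m ((O a).ι c) ∈ O₁
    rw [show (O a).ι c = a from hOeq a _ c.2]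
    exact hO₁
  rw [← IsOpenImmersion.lift_fac O₁.ι (h ≫ g i) (by rwa [Scheme.Opens.range_ι]),
    ← IsOpenImmersion.lift_fac O₁.ι ((O a).ι ≫ m) (by rwa [Scheme.Opens.range_ι])]
  congr 1
  rw [← cancel_mono (O₁.ι ≫ pullback.fst f v), ← Category.assoc, IsOpenImmersion.lift_fac, e1,
    ← Category.assoc, IsOpenImmersion.lift_fac]

theorem push_preservesFiniteColimits {Y : Scheme.{u}} (f : η ⟶ Y) :
    PreservesFiniteColimits (EtCoh.push f) := by
  have : (EtCoh.push f).PreservesEpimorphisms :=
    ⟨fun {F G} φ _ => by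
      have := (Sheaf.isLocallySurjective_iff_epi' _ φ).2 inferInstance
      exact (Sheaf.isLocallySurjective_iff_epi' _ _).1
        (EtFound.isLocallySurjective_push_of_propB f (propB_of_sepClosed f) φ)⟩
  have := EtFound.push_preservesFiniteLimits f
  rw [Functor.preservesFiniteColimits_iff_forall_exact_map_and_epi]
  intro S hS
  have := hS.epi_g
  refine ⟨?_, inferInstance⟩
  have h := ((Functor.preservesFiniteLimits_tfae (EtCoh.push f)).out 3 0 rfl rfl).1 (EtFound.push_preservesFiniteLimits f)
  exact (h S hS).1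

end Field

theorem isZero_rightDerived_of_exact {A B : Type*} [Category A] [Category B] [Abelian A] [Abelian B]
    [EnoughInjectives A] (E : A ⥤ B) [E.Additive] [PreservesFiniteLimits E] [PreservesFiniteColimits E]
    (X : A) (q : ℕ) : IsZero ((E.rightDerived (q + 1)).obj X) := by
  refine IsZero.of_iso ?_ ((injectiveResolution X).isoRightDerivedObj E (q + 1))
  refine IsZero.of_iso ?_ ((((injectiveResolution X).cocomplex).sc (q + 1)).mapHomologyIso E)
  exact E.map_isZero ((HomologicalComplex.exactAt_iff_isZero_homology _ _).1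
    ((injectiveResolution X).cocomplex_exactAt_succ q))

theorem isFractionRing_self_of_isUnit (R : Type u) [CommRing R] (h : ∀ x : R, x ≠ 0 → IsUnit x)
    [Nontrivial R] : IsFractionRing R R :=
  IsFractionRing.self_iff_nonZeroDivisors_le_isUnit.mpr fun x hx => h x (nonZeroDivisors.ne_zero hx)

/-- the canonical equivalence between a field and the function field of its spectrum -/
noncomputable def functionFieldEquiv (R : CommRingCat.{u}) [IsDomain R] [IsFractionRing R R] :
    R ≃+* (Spec R).functionField :=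
  (IsLocalization.algEquiv (nonZeroDivisors (R : Type u)) R (Spec R).functionField).toRingEquiv

theorem isSepClosed_functionField_specField (K : Type u) [Field K] [IsSepClosed K] :
    IsSepClosed (Spec (CommRingCat.of K)).functionField :=
  have : IsDomain (CommRingCat.of K) := inferInstanceAs (IsDomain K)
  have : IsFractionRing (CommRingCat.of K) (CommRingCat.of K) :=
    isFractionRing_self_of_isUnit K fun _ hx => isUnit_iff_ne_zero.2 hx
  Hensel.isSepClosed_of_ringEquiv (k := K) (functionFieldEquiv (CommRingCat.of K))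

theorem isZero_Rpush_const {X Y : Scheme.{u}} (f : X ⟶ Y) [IsIntegral X]
    (hN : ∀ x : X, IsIntegrallyClosed (X.presheaf.stalk x)) [IsSepClosed X.functionField]
    (M : Type) [AddCommGroup M] (q : ℕ) (hq : 1 ≤ q) :
    IsZero ((EtCoh.Rpush f q).obj (EtCoh.const X M)) := by
  obtain ⟨p, rfl⟩ := Nat.exists_eq_add_of_le' hq
  let η : Scheme.{u} := Spec X.functionField
  have : Subsingleton η := inferInstanceAs (Subsingleton (PrimeSpectrum X.functionField))
  have : IsSepClosed η.functionField := isSepClosed_functionField_specField X.functionField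
  let j : η ⟶ X := X.fromSpecStalk (genericPoint X)
  have hexj := push_preservesFiniteColimits j
  have hexjf := push_preservesFiniteColimits (j ≫ f)
  have := EtFound.push_preservesFiniteLimits j
  have := EtFound.push_preservesFiniteLimits (j ≫ f)
  have := EtFound.pull_preservesFiniteLimits j
  have : (EtCoh.push j).PreservesInjectiveObjects :=
    Functor.preservesInjectiveObjects_of_adjunction_of_preservesMonomorphisms (EtCoh.pullPushAdj j)
  have := Groth.Agent.NormalUnit.isIso_unit_generic hN M
  let G := (EtCoh.pull j).obj (EtCoh.const X M)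
  let e : EtCoh.const X M ≅ (EtCoh.push j).obj G := asIso ((EtCoh.pullPushAdj j).unit.app (EtCoh.const X M))
  let c := EtCoh.pushComp f j
  have hz : IsZero (((EtCoh.push j ⋙ EtCoh.push f).rightDerived (p + 1)).obj G) := by
    refine IsZero.of_iso (isZero_rightDerived_of_exact (EtCoh.push (j ≫ f)) G p) ?_
    exact { hom := (NatTrans.rightDerived c.hom (p + 1)).app G
            inv := (NatTrans.rightDerived c.inv (p + 1)).app G
            hom_inv_id := by rw [← NatTrans.comp_app, ← NatTrans.rightDerived_comp, c.hom_inv_id,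
              NatTrans.rightDerived_id, NatTrans.id_app]
            inv_hom_id := by rw [← NatTrans.comp_app, ← NatTrans.rightDerived_comp, c.inv_hom_id,
              NatTrans.rightDerived_id, NatTrans.id_app] }
  refine IsZero.of_iso hz (((EtCoh.Rpush f (p + 1)).mapIso e) ≪≫ ?_)
  exact ((SiteBase.rightDerivedPrecompIso (EtCoh.push j) (EtCoh.push f) (p + 1)).app G).symm

end Groth.Agent.SepClosedPush
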